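import Mathlib.CategoryTheory.Sites.PrecoverageToGrothendieck

/-!
# Composites and pullbacks of covering presieves
-/

set_option autoImplicit false
universe v₁ u₁

open CategoryTheory

namespace Groth.Agent.PrecovComp

variable {C : Type u₁} [Category.{v₁} C]

theorem ofArrows_uncurry {X : C} (R : Presieve X) :
    Presieve.ofArrows (fun i : R.uncurry => i.1.1) (fun i => i.1.2) = R := by
  refine le_antisymm (fun Z g hg => ?_) fun Z g hg => ?_
  · cases hg with
    | mk i => exact i.2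
  · exact Presieve.ofArrows.mk (f := fun i : R.uncurry => i.1.2) (⟨⟨Z, g⟩, hg⟩ : R.uncurry)

/-- Composing a covering presieve with a covering presieve of each of its sources. -/
theorem exists_comp {P : Precoverage C} [P.IsStableUnderComposition] {X : C} {R : Presieve X}
    (hR : R ∈ P X) (R₂ : ∀ ⦃Y : C⦄ ⦃f : Y ⟶ X⦄, R f → Presieve Y)
    (h₂ : ∀ ⦃Y : C⦄ ⦃f : Y ⟶ X⦄ (hf : R f), R₂ hf ∈ P Y) :
    ∃ T ∈ P X, ∀ ⦃Z : C⦄ ⦃q : Z ⟶ X⦄, T q →
      ∃ (Y : C) (f : Y ⟶ X) (hf : R f) (g : Z ⟶ Y), R₂ hf g ∧ g ≫ f = q := by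
  have h1 : Presieve.ofArrows (fun i : R.uncurry => i.1.1) (fun i => i.1.2) ∈ P X := by
    rwa [ofArrows_uncurry]
  have h3 : ∀ i : R.uncurry, Presieve.ofArrows (fun j : (R₂ i.2).uncurry => j.1.1)
      (fun j => j.1.2) ∈ P i.1.1 := fun i => by
    rw [ofArrows_uncurry]; exact h₂ i.2
  refine ⟨_, P.comp_mem_coverings _ h1 _ h3, ?_⟩
  intro Z q hq
  cases hq with
  | mk p => exact ⟨_, p.1.1.2, p.1.2, p.2.1.2, p.2.2, rfl⟩

/-- The elements of a pulled back presieve lie in the pulled back sieve. -/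
theorem exists_factor_of_pullbackArrows {X Y : C} (k : Y ⟶ X) (R : Presieve X) [R.HasPullbacks k]
    {W : C} {p : W ⟶ Y} (hp : Presieve.pullbackArrows k R p) :
    ∃ (Z : C) (e : Z ⟶ X) (_ : R e) (s : W ⟶ Z), s ≫ e = p ≫ k := by
  cases hp with
  | mk Z e he =>
    haveI := R.hasPullback k he
    exact ⟨Z, e, he, Limits.pullback.fst e k, Limits.pullback.condition⟩

theorem le_pullback_of_pullbackArrows {X Y : C} (k : Y ⟶ X) (R : Presieve X) [R.HasPullbacks k]
    (S : Sieve X) (h : ∀ ⦃Z : C⦄ ⦃e : Z ⟶ X⦄, R e → S e)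
    {W : C} {p : W ⟶ Y} (hp : Presieve.pullbackArrows k R p) : S (p ≫ k) := by
  obtain ⟨Z, e, he, s, hs⟩ := exists_factor_of_pullbackArrows k R hp
  rw [← hs]
  exact S.downward_closed (h he) s

end Groth.Agent.PrecovComp
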