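import Groth.Agent.PrecovComp.Basic

/-!
# Sheaves for the topology generated by two interacting precoverages
-/

set_option autoImplicit false
universe w v₁ u₁

open CategoryTheory Opposite

namespace Groth.Agent.PrecovComp

variable {C : Type u₁} [Category.{v₁} C] {C' : C → Prop} {P P' : Precoverage C} {F : Cᵒᵖ ⥤ Type w}

theorem map_comp' {X Y Z : C} (g : Z ⟶ Y) (f : Y ⟶ X) (x : F.obj (op X)) :
    F.map g.op (F.map f.op x) = F.map (g ≫ f).op x := by
  rw [op_comp, F.map_comp]; rfl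

/-- A presheaf satisfying the sheaf condition for both precoverages satisfies it on pullback sieves
of the second precoverage. -/
theorem isSheafFor_pullback_right [P.HasPullbacks] [P.IsStableUnderBaseChange]
    (ha : ∀ ⦃X : C⦄ ⦃R : Presieve X⦄, R ∈ P' X → ∀ ⦃T : C⦄ (g : T ⟶ X), C' T →
      ∃ _ : R.HasPullbacks g, Presieve.pullbackArrows g R ∈ P' T)
    (hb : ∀ X : C, ∃ R ∈ P X, ∀ ⦃Y : C⦄ ⦃f : Y ⟶ X⦄, R f → C' Y)
    (h1 : ∀ ⦃X : C⦄ ⦃R : Presieve X⦄, R ∈ P X → Presieve.IsSheafFor F R)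
    (h2 : ∀ ⦃X : C⦄ ⦃R : Presieve X⦄, R ∈ P' X → Presieve.IsSheafFor F R)
    {X Y : C} {R : Presieve X} (hR : R ∈ P' X) (k : Y ⟶ X) :
    Presieve.IsSheafFor F ((Sieve.generate R).pullback k).arrows := by
  choose R₁ hR₁ hC₁ using hb
  -- over objects of `C'` the pullback sieve is generated by a family of `P'`
  have key : ∀ (V : C), C' V → ∀ q : V ⟶ X,
      Presieve.IsSheafFor F ((Sieve.generate R).pullback q).arrows := by
    intro V hV q
    obtain ⟨_, hq⟩ := ha hR q hV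
    rw [← Sieve.pullbackArrows_comm, ← Presieve.isSheafFor_iff_generate]
    exact h2 hq
  -- sections agreeing on the pullback sieve are equal
  have sep : ∀ (W : C) (q : W ⟶ X) (t₁ t₂ : F.obj (op W)),
      (∀ (Z : C) (g : Z ⟶ W), (Sieve.generate R).pullback q g → F.map g.op t₁ = F.map g.op t₂) →
        t₁ = t₂ := by
    intro W q t₁ t₂ h
    refine (h1 (hR₁ W)).isSeparatedFor.ext fun V e he => ?_
    refine (key V (hC₁ W he) (e ≫ q)).isSeparatedFor.ext fun Z g hg => ?_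
    rw [map_comp', map_comp']
    exact h Z (g ≫ e) (by rwa [Sieve.pullback_apply, Category.assoc])
  intro x hx
  let xs : ∀ (V : C) (f : V ⟶ Y), Presieve.FamilyOfElements F
      ((Sieve.generate R).pullback (f ≫ k)).arrows := fun V f Z g hg =>
    x (g ≫ f) (by rw [Sieve.pullback_apply, Category.assoc] at *; exact hg)
  have hxs : ∀ (V : C) (f : V ⟶ Y), (xs V f).Compatible := by
    intro V f Z₁ Z₂ Z g₁ g₂ f₁ f₂ hf₁ hf₂ h
    exact hx g₁ g₂ _ _ (by rw [← Category.assoc, h, Category.assoc])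
  choose z hz using fun (V : C) (f : V ⟶ Y) (hf : R₁ Y f) =>
    ((key V (hC₁ Y hf) (f ≫ k)) (xs V f) (hxs V f)).exists
  let zf : Presieve.FamilyOfElements F (R₁ Y) := fun V f hf => z V f hf
  have hzc : zf.Compatible := by
    intro V₁ V₂ W g₁ g₂ f₁ f₂ hf₁ hf₂ h
    refine sep W ((g₁ ≫ f₁) ≫ k) _ _ fun Z g hg => ?_
    rw [map_comp', map_comp']
    have e1 : (g ≫ g₁) ≫ f₁ ≫ k = g ≫ (g₁ ≫ f₁) ≫ k := by simp only [Category.assoc]
    have e2 : (g ≫ g₂) ≫ f₂ ≫ k = g ≫ (g₁ ≫ f₁) ≫ k := by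
      rw [h]; simp only [Category.assoc]
    rw [Sieve.pullback_apply] at hg
    rw [hz V₁ f₁ hf₁ (g ≫ g₁) (by rw [Sieve.pullback_apply, e1]; exact hg),
      hz V₂ f₂ hf₂ (g ≫ g₂) (by rw [Sieve.pullback_apply, e2]; exact hg)]
    show x ((g ≫ g₁) ≫ f₁) _ = x ((g ≫ g₂) ≫ f₂) _
    congr 1
    rw [Category.assoc, h, Category.assoc]
  obtain ⟨t, ht, -⟩ := h1 (hR₁ Y) _ hzc
  have htx : x.IsAmalgamation t := by
    intro W q hq
    haveI : (R₁ Y).HasPullbacks q := P.hasPullbacks_of_mem q (hR₁ Y)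
    refine (h1 (P.pullbackArrows_mem q (hR₁ Y))).isSeparatedFor.ext fun V p hp => ?_
    obtain ⟨U, f, hf, s, hs⟩ := exists_factor_of_pullbackArrows q (R₁ Y) hp
    have hS : ((Sieve.generate R).pullback k) (p ≫ q) :=
      ((Sieve.generate R).pullback k).downward_closed hq p
    have hm : ((Sieve.generate R).pullback (f ≫ k)) s := by
      show (Sieve.generate R) (s ≫ f ≫ k)
      rw [← Category.assoc, hs]
      exact hS
    rw [map_comp', ← hs, ← map_comp', ht f hf, hz U f hf s hm]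
    show x (s ≫ f) _ = _
    rw [← hx.to_sieveCompatible q p hq]
    congr 1
  refine ⟨t, htx, fun t' ht' => sep Y k t' t fun Z g hg => ?_⟩
  rw [ht' g hg, htx g hg]

end Groth.Agent.PrecovComp
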