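import Groth.Agent.PrecovComp.Basic

/-!
# The topology generated by two interacting precoverages
-/

set_option autoImplicit false
universe w v₁ u₁

open CategoryTheory

namespace Groth.Agent.PrecovComp

variable {C : Type u₁} [Category.{v₁} C] (C' : C → Prop) (P P' : Precoverage C)

/-- A sieve containing a composite of a `P`-family followed by `P'`-families. -/
def Good (X : C) (S' : Sieve X) : Prop :=
  ∃ (R : Presieve X) (_ : R ∈ P X) (_ : ∀ ⦃Y : C⦄ ⦃f : Y ⟶ X⦄, R f → C' Y)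
    (R' : ∀ ⦃Y : C⦄ ⦃f : Y ⟶ X⦄, R f → Presieve Y),
    (∀ ⦃Y : C⦄ ⦃f : Y ⟶ X⦄ (hf : R f), R' hf ∈ P' Y) ∧
    ∀ ⦃Y : C⦄ ⦃f : Y ⟶ X⦄ (hf : R f) ⦃Z : C⦄ ⦃g : Z ⟶ Y⦄, R' hf g → S' (g ≫ f)

variable {C'} {P P'}

theorem mem_of_good {X : C} {S' : Sieve X} (h : Good C' P P' X S') :
    S' ∈ (P ⊔ P').toGrothendieck X := by
  obtain ⟨R, hR, -, R', hR', hS⟩ := h
  refine ((P ⊔ P').toGrothendieck).transitive
    (Precoverage.generate_mem_toGrothendieck (J := P ⊔ P') (show R ∈ (P ⊔ P') X from Or.inl hR)) S' ?_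
  rintro W q ⟨Y, r, f, hf, rfl⟩
  rw [Sieve.pullback_comp]
  refine GrothendieckTopology.pullback_stable _ r ?_
  refine GrothendieckTopology.superset_covering _ ?_
    (Precoverage.generate_mem_toGrothendieck (J := P ⊔ P') (show R' hf ∈ (P ⊔ P') Y from Or.inr (hR' hf)))
  rw [Sieve.generate_le_iff]
  exact fun Z g hg => hS hf hg

variable [P.IsStableUnderComposition]

theorem good_top (hP'id : ∀ ⦃X : C⦄, C' X → Presieve.singleton (𝟙 X) ∈ P' X)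
    (hb : ∀ X : C, ∃ R ∈ P X, ∀ ⦃Y : C⦄ ⦃f : Y ⟶ X⦄, R f → C' Y) (X : C) :
    Good C' P P' X ⊤ := by
  obtain ⟨R, hR, hR'⟩ := hb X
  exact ⟨R, hR, hR', fun Y _ _ => Presieve.singleton (𝟙 Y), fun Y f hf => hP'id (hR' hf),
    fun _ _ _ _ _ _ => trivial⟩

theorem good_generate_left (hP'id : ∀ ⦃X : C⦄, C' X → Presieve.singleton (𝟙 X) ∈ P' X)
    (hb : ∀ X : C, ∃ R ∈ P X, ∀ ⦃Y : C⦄ ⦃f : Y ⟶ X⦄, R f → C' Y) {X : C} {R : Presieve X}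
    (hR : R ∈ P X) : Good C' P P' X (Sieve.generate R) := by
  choose R₁ hR₁ hC₁ using hb
  obtain ⟨T, hT, hTm⟩ := exists_comp hR (fun Y _ _ => R₁ Y) (fun Y _ _ => hR₁ Y)
  refine ⟨T, hT, fun Z q hq => ?_, fun Z _ _ => Presieve.singleton (𝟙 Z), fun Z q hq => hP'id ?_, ?_⟩
  · obtain ⟨Y, f, -, g, hg, -⟩ := hTm hq
    exact hC₁ Y hg
  · obtain ⟨Y, f, -, g, hg, -⟩ := hTm hq
    exact hC₁ Y hg
  · intro Z q hq W g hg
    obtain ⟨Y, f, hf, e, -, rfl⟩ := hTm hq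
    cases hg with
    | mk => exact ⟨Y, 𝟙 Z ≫ e, f, hf, Category.assoc _ _ _⟩

theorem good_generate_right
    (ha : ∀ ⦃X : C⦄ ⦃R : Presieve X⦄, R ∈ P' X → ∀ ⦃T : C⦄ (g : T ⟶ X), C' T →
      ∃ _ : R.HasPullbacks g, Presieve.pullbackArrows g R ∈ P' T)
    (hb : ∀ X : C, ∃ R ∈ P X, ∀ ⦃Y : C⦄ ⦃f : Y ⟶ X⦄, R f → C' Y) {X : C} {R : Presieve X}
    (hR : R ∈ P' X) : Good C' P P' X (Sieve.generate R) := by
  obtain ⟨R₁, hR₁, hC₁⟩ := hb X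
  choose hpb hmem using fun (Y : C) (f : Y ⟶ X) (hf : R₁ f) => ha hR f (hC₁ hf)
  refine ⟨R₁, hR₁, hC₁,
    fun Y f hf => @Presieve.pullbackArrows _ _ _ _ f R (hpb Y f hf), fun Y f hf => hmem Y f hf, ?_⟩
  intro Y f hf Z g hg
  exact @le_pullback_of_pullbackArrows _ _ _ _ f R (hpb Y f hf) (Sieve.generate R)
    (fun W e he => Sieve.le_generate R _ _ he) _ _ hg

variable [P.IsStableUnderBaseChange] [P.HasPullbacks]

theorem good_pullback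
    (ha : ∀ ⦃X : C⦄ ⦃R : Presieve X⦄, R ∈ P' X → ∀ ⦃T : C⦄ (g : T ⟶ X), C' T →
      ∃ _ : R.HasPullbacks g, Presieve.pullbackArrows g R ∈ P' T)
    (hb : ∀ X : C, ∃ R ∈ P X, ∀ ⦃Y : C⦄ ⦃f : Y ⟶ X⦄, R f → C' Y) {X Y : C} {S : Sieve X}
    (k : Y ⟶ X) (h : Good C' P P' X S) : Good C' P P' Y (S.pullback k) := by
  obtain ⟨R, hR, -, R', hR', hS⟩ := h
  haveI : R.HasPullbacks k := P.hasPullbacks_of_mem k hR
  choose R₁ hR₁ hC₁ using hb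
  obtain ⟨T, hT, hTm⟩ := exists_comp (P.pullbackArrows_mem k hR) (fun W _ _ => R₁ W)
    (fun W _ _ => hR₁ W)
  have key : ∀ (V : C) (q : V ⟶ Y), T q → ∃ (Z : C) (f : Z ⟶ X) (hf : R f) (t : V ⟶ Z),
      t ≫ f = q ≫ k ∧ C' V := by
    intro V q hq
    obtain ⟨W, p, hp, r, hr, rfl⟩ := hTm hq
    obtain ⟨Z, f, hf, s, hs⟩ := exists_factor_of_pullbackArrows k R hp
    exact ⟨Z, f, hf, r ≫ s, by rw [Category.assoc, hs, Category.assoc], hC₁ W hr⟩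
  choose Zo fo hfo tmap hto hCo using key
  choose hpb hmem using fun (V : C) (q : V ⟶ Y) (hq : T q) =>
    ha (hR' (hfo V q hq)) (tmap V q hq) (hCo V q hq)
  refine ⟨T, hT, fun V q hq => hCo V q hq,
    fun V q hq => @Presieve.pullbackArrows _ _ _ _ (tmap V q hq) (R' (hfo V q hq)) (hpb V q hq),
    fun V q hq => hmem V q hq, ?_⟩
  intro V q hq W g hg
  have h1 := @le_pullback_of_pullbackArrows _ _ _ _ (tmap V q hq) (R' (hfo V q hq)) (hpb V q hq)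
    (S.pullback (fo V q hq)) (fun Z e he => hS (hfo V q hq) he) _ _ hg
  rw [Sieve.pullback_apply, Category.assoc, hto] at h1
  rw [Sieve.pullback_apply, Category.assoc]
  exact h1

omit [P.IsStableUnderComposition] [P.IsStableUnderBaseChange] [P.HasPullbacks] in
theorem good_transitive
    (hc : ∀ ⦃S : C⦄ ⦃R₁ : Presieve S⦄, R₁ ∈ P' S →
      ∀ (R₂ : ∀ ⦃Y : C⦄ ⦃f : Y ⟶ S⦄, R₁ f → Presieve Y),
        (∀ ⦃Y : C⦄ ⦃f : Y ⟶ S⦄ (hf : R₁ f), R₂ hf ∈ P Y ∧ ∀ ⦃Z : C⦄ ⦃g : Z ⟶ Y⦄, R₂ hf g → C' Z) →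
      ∀ (R₃ : ∀ ⦃Y : C⦄ ⦃f : Y ⟶ S⦄ (hf : R₁ f) ⦃Z : C⦄ ⦃g : Z ⟶ Y⦄, R₂ hf g → Presieve Z),
        (∀ ⦃Y : C⦄ ⦃f : Y ⟶ S⦄ (hf : R₁ f) ⦃Z : C⦄ ⦃g : Z ⟶ Y⦄ (hg : R₂ hf g), R₃ hf hg ∈ P' Z) →
      ∃ T ∈ P' S, ∀ ⦃W : C⦄ ⦃q : W ⟶ S⦄, T q →
        ∃ (Y Z V : C) (f : Y ⟶ S) (hf : R₁ f) (g : Z ⟶ Y) (hg : R₂ hf g) (h : V ⟶ Z) (_ : R₃ hf hg h)
          (r : W ⟶ V), r ≫ h ≫ g ≫ f = q)
    {X : C} {S S' : Sieve X} (h : Good C' P P' X S)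
    (h' : ∀ ⦃Y : C⦄ ⦃f : Y ⟶ X⦄, S f → Good C' P P' Y (S'.pullback f)) :
    Good C' P P' X S' := by
  obtain ⟨R, hR, hC, R', hR', hS⟩ := h
  choose R₂ hR₂ hC₂ R₃ hR₃ hS₃ using
    fun (Y : C) (f : Y ⟶ X) (hf : R f) (Z : C) (g : Z ⟶ Y) (hg : R' hf g) => h' (hS hf hg)
  choose T hT hTm using fun (Y : C) (f : Y ⟶ X) (hf : R f) =>
    hc (hR' hf) (fun Z g hg => R₂ Y f hf Z g hg)
      (fun Z g hg => ⟨hR₂ Y f hf Z g hg, hC₂ Y f hf Z g hg⟩)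
      (fun Z g hg V e he => R₃ Y f hf Z g hg he) (fun Z g hg V e he => hR₃ Y f hf Z g hg he)
  refine ⟨R, hR, hC, fun Y f hf => T Y f hf, fun Y f hf => hT Y f hf, ?_⟩
  intro Y f hf W q hq
  obtain ⟨Z, V, U, g, hg, e, he, a, ha, r, rfl⟩ := hTm Y f hf hq
  have h1 := hS₃ Y f hf Z g hg he ha
  rw [Sieve.pullback_apply] at h1
  have h2 := S'.downward_closed h1 r
  simpa [Category.assoc] using h2

end Groth.Agent.PrecovComp
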